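import Mathlib
import Cfsg.Agent.H703.Lat.Basic

/-!
# Principal `2`-blocks with five characters: `128 ∤ |G|`

The degrees of a principal `2`-block with exactly five irreducible characters satisfy the lattice
inequalities of `H703.Lat.lattice` for all powers of `2` dividing `|G|`.  A staged finite search
modulo `8, 16, 32, 64, 128` shows that `128` does not divide `|G|`.

* `nrm Q n` : the least absolute residue (as a natural number) of `n` modulo `Q`.
* `sum_nrm_ge` : `Q * nrm Q m ≤ ∑_{χ ∈ B₀} nrm Q (m χ(1)) ^ 2` for `Q = p ^ a ∣ |G|`.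
* `not_dvd_128`.
-/

set_option autoImplicit false
set_option linter.unusedSectionVars false

open Cfsg

namespace Cfsg.Agent.H98.K5

open Cfsg.Agent.Characters.Core Cfsg.Agent.Blocks Cfsg.Agent.Blocks.Basic Cfsg.Agent.Blocks.LocalRing
open Cfsg.Agent.H703.Lat

universe u

/-- The least absolute residue of `n` modulo `Q`. -/
def nrm (Q n : ℕ) : ℕ := min (n % Q) (Q - n % Q)

section lat

variable {G : Type u} [Group G] [Finite G] {M : Ideal AlgInt} {B : Finset (IrrCharacter G)}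

/-- the least absolute residue of `m χ(1)` modulo `Q` -/
noncomputable def cm (Q m : ℕ) (χ : IrrCharacter G) : ℤ :=
  (((m * charDegree (χ : G → ℂ) : ℕ)) : ZMod Q).valMinAbs

theorem inv_cm (Q m : ℕ) : Inv (cm (G := G) Q m) :=
  inv_deg fun d => (((m * d : ℕ)) : ZMod Q).valMinAbs

theorem natAbs_valMinAbs_eq {Q : ℕ} [NeZero Q] (n : ℕ) : ((n : ℕ) : ZMod Q).valMinAbs.natAbs = nrm Q n := by
  rw [ZMod.valMinAbs_natAbs_eq_min, ZMod.val_natCast, nrm]

theorem natAbs_cm {Q : ℕ} [NeZero Q] (m : ℕ) (χ : IrrCharacter G) :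
    (cm Q m χ).natAbs = nrm Q (m * charDegree (χ : G → ℂ)) := natAbs_valMinAbs_eq _

theorem dvd_cm (Q m : ℕ) (χ : IrrCharacter G) : (Q : ℤ) ∣ cm Q m χ - m * charDegree (χ : G → ℂ) := by
  rw [← ZMod.intCast_zmod_eq_zero_iff_dvd]
  push_cast
  rw [cm, ZMod.coe_valMinAbs]
  push_cast
  exact sub_self _

theorem charDegree_triv : charDegree ((⟨fun _ => 1, isIrrCharacter_one⟩ : IrrCharacter G) : G → ℂ) = 1 := by
  rw [charDegree_of_eq (n := 1)]
  show (1 : ℂ) = ((1 : ℕ) : ℂ)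
  simp

/-- The lattice inequality in terms of least absolute residues. -/
theorem sum_nrm_ge {p : ℕ} (hM : IsPModular p M) (hB : Good M B)
    (h1B : (⟨fun _ => 1, isIrrCharacter_one⟩ : IrrCharacter G) ∈ B) {a : ℕ} (ha : p ^ a ∣ Nat.card G) (m : ℕ) :
    p ^ a * nrm (p ^ a) m ≤ ∑ χ ∈ B, nrm (p ^ a) (m * charDegree (χ : G → ℂ)) ^ 2 := by
  have hQ : p ^ a ≠ 0 := pow_ne_zero _ hM.1.ne_zero
  have : NeZero (p ^ a) := ⟨hQ⟩
  obtain ⟨F, hF⟩ := exists_F hM hB ha (inv_cm (p ^ a) m) (m := m) (fun χ _ => dvd_cm (p ^ a) m χ)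
  have h := lattice hQ h1B hF
  have h1 : |cm (p ^ a) m (⟨fun _ => 1, isIrrCharacter_one⟩ : IrrCharacter G)| = (nrm (p ^ a) m : ℤ) := by
    rw [Int.abs_eq_natAbs, natAbs_cm, charDegree_triv, mul_one]
  rw [h1] at h
  have h2 : ∑ χ ∈ B, cm (p ^ a) m χ ^ 2 =
      ((∑ χ ∈ B, nrm (p ^ a) (m * charDegree (χ : G → ℂ)) ^ 2 : ℕ) : ℤ) := by
    push_cast
    refine Finset.sum_congr rfl fun χ _ => ?_
    rw [← natAbs_cm, Int.natCast_natAbs, sq_abs]
  rw [h2] at h
  exact_mod_cast h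

end lat

/-! ### Arithmetic of `nrm` -/

theorem nrm_le {Q n : ℕ} : nrm Q n ≤ Q / 2 := by
  unfold nrm
  omega

theorem nrm_cases {Q n : ℕ} (hQ : 0 < Q) : (∃ k, n = Q * k + nrm Q n) ∨ (∃ k, n + nrm Q n = Q * k) := by
  have h := Nat.div_add_mod n Q
  have h1 := Nat.mod_lt n hQ
  rcases le_total (n % Q) (Q - n % Q) with h2 | h2
  · left
    refine ⟨n / Q, ?_⟩
    rw [nrm, min_eq_left h2]
    exact h.symm
  · right
    refine ⟨n / Q + 1, ?_⟩
    rw [nrm, min_eq_right h2, mul_add, mul_one]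
    omega

theorem nrm_eq_of {Q n r k : ℕ} (hr : 2 * r ≤ Q) (hQ : 0 < Q) (h : n = Q * k + r ∨ n + r = Q * k) : nrm Q n = r := by
  rcases h with rfl | h
  · have h1 : (Q * k + r) % Q = r := by
      rw [Nat.mul_add_mod]
      exact Nat.mod_eq_of_lt (by omega)
    rw [nrm, h1]
    omega
  · rcases Nat.eq_zero_or_pos r with rfl | hr0
    · rw [add_zero] at h
      rw [nrm, h, Nat.mul_mod_right]
      omega
    · have hk : 0 < k := by
        rcases Nat.eq_zero_or_pos k with rfl | hk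
        · omega
        · exact hk
      obtain ⟨k, rfl⟩ : ∃ j, k = j + 1 := ⟨k - 1, by omega⟩
      have h1 : n = Q * k + (Q - r) := by
        rw [mul_add, mul_one] at h
        omega
      have h2 : n % Q = Q - r := by
        rw [h1, Nat.mul_add_mod]
        exact Nat.mod_eq_of_lt (by omega)
      rw [nrm, h2]
      omega

/-- `nrm Q (m n)` depends only on `nrm Q n`. -/
theorem nrm_mul {Q : ℕ} (hQ : 0 < Q) (m n : ℕ) : nrm Q (m * n) = nrm Q (m * nrm Q n) := by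
  have hh : 2 * nrm Q (m * nrm Q n) ≤ Q := by
    have := nrm_le (Q := Q) (n := m * nrm Q n)
    omega
  rcases nrm_cases (Q := Q) (n := n) hQ with ⟨k, hk⟩ | ⟨k, hk⟩ <;>
  rcases nrm_cases (Q := Q) (n := m * nrm Q n) hQ with ⟨l, hl⟩ | ⟨l, hl⟩
  · refine nrm_eq_of (k := m * k + l) hh hQ (Or.inl ?_)
    calc m * n = m * (Q * k + nrm Q n) := by rw [← hk]
      _ = Q * (m * k) + m * nrm Q n := by ring
      _ = Q * (m * k) + (Q * l + nrm Q (m * nrm Q n)) := by rw [← hl]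
      _ = _ := by ring
  · refine nrm_eq_of (k := m * k + l) hh hQ (Or.inr ?_)
    calc m * n + nrm Q (m * nrm Q n) = m * (Q * k + nrm Q n) + nrm Q (m * nrm Q n) := by rw [← hk]
      _ = Q * (m * k) + (m * nrm Q n + nrm Q (m * nrm Q n)) := by ring
      _ = _ := by rw [hl]; ring
  · -- `m n + m r = Q m k`, `m r = Q l + s`
    have h1 : m * n + m * nrm Q n = Q * (m * k) := by rw [← mul_add, hk]; ring
    rcases le_or_gt (Q * l) (Q * (m * k)) with h2 | h2
    · refine nrm_eq_of (k := m * k - l) hh hQ (Or.inr ?_)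
      rw [Nat.mul_sub]
      omega
    · omega
  · have h1 : m * n + m * nrm Q n = Q * (m * k) := by rw [← mul_add, hk]; ring
    rcases le_or_gt (Q * l) (Q * (m * k)) with h2 | h2
    · refine nrm_eq_of (k := m * k - l) hh hQ (Or.inl ?_)
      rw [Nat.mul_sub]
      omega
    · -- `Q l > Q m k ≥ m r`, `m r + s = Q l`, `m n = Q m k - m r`
      have h3 : m * k + 1 ≤ l := by
        by_contra h4
        have h5 : l ≤ m * k := by omega
        exact absurd (Nat.mul_le_mul_left Q h5) (by omega)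
      have h4 : Q * (m * k) + Q ≤ Q * l := by
        calc Q * (m * k) + Q = Q * (m * k + 1) := by ring
          _ ≤ Q * l := Nat.mul_le_mul_left Q h3
      have h5 : nrm Q (m * nrm Q n) = 0 ∨ 0 < nrm Q (m * nrm Q n) := Nat.eq_zero_or_pos _
      omega

/-- Lifting from modulus `Q` to modulus `2 Q`. -/
theorem nrm_lift {Q : ℕ} (hQ : 0 < Q) (n : ℕ) :
    nrm (2 * Q) n = nrm Q n ∨ nrm (2 * Q) n = Q - nrm Q n := by
  have hr : nrm Q n ≤ Q / 2 := nrm_le
  rcases nrm_cases (Q := Q) (n := n) hQ with ⟨k, hk⟩ | ⟨k, hk⟩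
  · rcases Nat.even_or_odd' k with ⟨j, rfl | rfl⟩
    · left
      refine nrm_eq_of (k := j) (by omega) (by omega) (Or.inl ?_)
      rw [show 2 * Q * j = Q * (2 * j) by ring]
      exact hk
    · right
      refine nrm_eq_of (k := j + 1) (by omega) (by omega) (Or.inr ?_)
      have h1 : Q * (2 * j + 1) = 2 * Q * j + Q := by ring
      have h2 : 2 * Q * (j + 1) = 2 * Q * j + 2 * Q := by ring
      omega
  · rcases Nat.even_or_odd' k with ⟨j, rfl | rfl⟩
    · left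
      refine nrm_eq_of (k := j) (by omega) (by omega) (Or.inr ?_)
      rw [show 2 * Q * j = Q * (2 * j) by ring]
      exact hk
    · right
      refine nrm_eq_of (k := j) (by omega) (by omega) (Or.inl ?_)
      have h1 : Q * (2 * j + 1) = 2 * Q * j + Q := by ring
      omega

/-! ### The finite search -/

/-- the sum of squares for the multiplier `m` -/
def sumSq (Q m a b c e : ℕ) : ℕ :=
  nrm Q m ^ 2 + nrm Q (m * a) ^ 2 + nrm Q (m * b) ^ 2 + nrm Q (m * c) ^ 2 + nrm Q (m * e) ^ 2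

/-- The inequality for the multiplier `m` holds. -/
def okm (Q m a b c e : ℕ) : Bool := Nat.ble (Q * nrm Q m) (sumSq Q m a b c e)

/-- The sum of squares is divisible by `Q`, and all inequalities hold. -/
def okAll (Q a b c e : ℕ) : Bool :=
  Nat.beq ((1 + a ^ 2 + b ^ 2 + c ^ 2 + e ^ 2) % Q) 0 && (List.range (Q / 2 + 1)).all fun m => okm Q m a b c e

/-- The hypotheses on the degrees modulo `Q`. -/
structure Hyp (Q a b c e : ℕ) : Prop where
  sq : Q ∣ 1 + a ^ 2 + b ^ 2 + c ^ 2 + e ^ 2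
  ineq : ∀ m, okm Q m a b c e = true

theorem sq_modEq {Q : ℕ} (hQ : 0 < Q) (n : ℕ) : nrm Q n ^ 2 ≡ n ^ 2 [MOD Q] := by
  have h1 : ((nrm Q n : ℕ) : ℤ) ^ 2 ≡ (n : ℤ) ^ 2 [ZMOD Q] := by
    rcases nrm_cases (Q := Q) (n := n) hQ with ⟨k, hk⟩ | ⟨k, hk⟩
    · have h2 : (n : ℤ) = Q * k + nrm Q n := by exact_mod_cast hk
      refine (Int.modEq_iff_dvd).2 ⟨k * (n + nrm Q n), ?_⟩
      have h3 : (n : ℤ) - nrm Q n = Q * k := by linarith
      calc (n : ℤ) ^ 2 - (nrm Q n : ℤ) ^ 2 = ((n : ℤ) - nrm Q n) * (n + nrm Q n) := by ring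
        _ = _ := by rw [h3]; ring
    · have h2 : (n : ℤ) + nrm Q n = Q * k := by exact_mod_cast hk
      refine (Int.modEq_iff_dvd).2 ⟨k * (n - nrm Q n), ?_⟩
      calc (n : ℤ) ^ 2 - (nrm Q n : ℤ) ^ 2 = ((n : ℤ) + nrm Q n) * (n - nrm Q n) := by ring
        _ = _ := by rw [h2]; ring
  have h3 : (((nrm Q n) ^ 2 : ℕ) : ℤ) ≡ ((n ^ 2 : ℕ) : ℤ) [ZMOD (Q : ℕ)] := by
    push_cast
    exact h1
  exact (Int.natCast_modEq_iff).1 h3

theorem okm_nrm {Q : ℕ} (hQ : 0 < Q) (m a b c e : ℕ) :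
    okm Q m (nrm Q a) (nrm Q b) (nrm Q c) (nrm Q e) = okm Q m a b c e := by
  unfold okm sumSq
  rw [← nrm_mul hQ m a, ← nrm_mul hQ m b, ← nrm_mul hQ m c, ← nrm_mul hQ m e]

theorem okAll_of {Q : ℕ} (hQ : 0 < Q) {a b c e : ℕ} (h : Hyp Q a b c e) :
    okAll Q (nrm Q a) (nrm Q b) (nrm Q c) (nrm Q e) = true := by
  unfold okAll
  rw [Bool.and_eq_true, List.all_eq_true]
  refine ⟨?_, fun m _ => ?_⟩
  · have h1 : 1 + nrm Q a ^ 2 + nrm Q b ^ 2 + nrm Q c ^ 2 + nrm Q e ^ 2 ≡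
        1 + a ^ 2 + b ^ 2 + c ^ 2 + e ^ 2 [MOD Q] :=
      ((((Nat.ModEq.refl 1).add (sq_modEq hQ a)).add (sq_modEq hQ b)).add (sq_modEq hQ c)).add (sq_modEq hQ e)
    have h2 : (1 + nrm Q a ^ 2 + nrm Q b ^ 2 + nrm Q c ^ 2 + nrm Q e ^ 2) % Q = 0 :=
      Nat.ModEq.trans h1 ((Nat.modEq_zero_iff_dvd).2 h.sq)
    rw [h2]
    rfl
  · rw [okm_nrm hQ]
    exact h.ineq m

/-- The condition for passing from modulus `Q` to modulus `2 Q`. -/
def step (Q : ℕ) (L L' : List (ℕ × ℕ × ℕ × ℕ)) : Bool :=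
  L.all fun t => [t.1, Q - t.1].all fun a => [t.2.1, Q - t.2.1].all fun b => [t.2.2.1, Q - t.2.2.1].all fun c =>
    [t.2.2.2, Q - t.2.2.2].all fun e => L'.contains (a, b, c, e) || !(okAll (2 * Q) a b c e)

theorem step_sound {Q : ℕ} (hQ : 0 < Q) {L L' : List (ℕ × ℕ × ℕ × ℕ)} (hs : step Q L L' = true) {a b c e : ℕ}
    (h2 : Hyp (2 * Q) a b c e) (h : (nrm Q a, nrm Q b, nrm Q c, nrm Q e) ∈ L) :
    (nrm (2 * Q) a, nrm (2 * Q) b, nrm (2 * Q) c, nrm (2 * Q) e) ∈ L' := by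
  unfold step at hs
  simp only [List.all_eq_true] at hs
  have h1 := hs _ h (nrm (2 * Q) a) (by rcases nrm_lift hQ a with h | h <;> rw [h] <;> simp)
    (nrm (2 * Q) b) (by rcases nrm_lift hQ b with h | h <;> rw [h] <;> simp)
    (nrm (2 * Q) c) (by rcases nrm_lift hQ c with h | h <;> rw [h] <;> simp)
    (nrm (2 * Q) e) (by rcases nrm_lift hQ e with h | h <;> rw [h] <;> simp)
  rw [okAll_of (by omega) h2, Bool.not_true, Bool.or_false, List.contains_iff_mem] at h1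
  exact h1

/-- the survivors modulo `Q`, ordered -/
def perms (l : List (ℕ × ℕ × ℕ × ℕ)) : List (ℕ × ℕ × ℕ × ℕ) :=
  l.flatMap fun t => [(t.1, t.2.1, t.2.2.1, t.2.2.2), (t.1, t.2.2.1, t.2.1, t.2.2.2), (t.2.1, t.1, t.2.2.1, t.2.2.2),
    (t.2.1, t.2.2.1, t.1, t.2.2.2), (t.2.2.1, t.1, t.2.1, t.2.2.2), (t.2.2.1, t.2.1, t.1, t.2.2.2)]

def L4 : List (ℕ × ℕ × ℕ × ℕ) := [(1, 1, 1, 2)]

def L8 : List (ℕ × ℕ × ℕ × ℕ) := (1, 1, 1, 2) :: [(1, 1, 3, 2), (1, 3, 1, 2), (3, 1, 1, 2), (1, 3, 3, 2), (3, 1, 3, 2),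
  (3, 3, 1, 2)]

def L16 : List (ℕ × ℕ × ℕ × ℕ) := perms [(1, 1, 3, 2), (1, 1, 3, 6), (1, 1, 5, 2), (1, 3, 7, 2), (1, 5, 7, 2),
  (1, 5, 7, 6)]

def L32 : List (ℕ × ℕ × ℕ × ℕ) := perms [(1, 1, 5, 2), (1, 3, 7, 2), (1, 3, 9, 2), (1, 7, 13, 2), (1, 9, 13, 2),
  (1, 11, 15, 2)]

def L64 : List (ℕ × ℕ × ℕ × ℕ) := perms [(1, 3, 7, 2), (1, 25, 29, 2)]

theorem step4 : step 4 L4 L8 = true := by decide +kernel

theorem step8 : step 8 L8 L16 = true := by decide +kernel

theorem step16 : step 16 L16 L32 = true := by decide +kernel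

theorem step32 : step 32 L32 L64 = true := by decide +kernel

theorem step64 : step 64 L64 [] = true := by decide +kernel

/-- The finite search. -/
theorem search {a b c e : ℕ} (ha : a % 2 = 1) (hb : b % 2 = 1) (hc : c % 2 = 1) (he : e % 4 = 2)
    (h : ∀ j, j ≤ 7 → Hyp (2 ^ j) a b c e) : False := by
  have h4 : (nrm 4 a, nrm 4 b, nrm 4 c, nrm 4 e) ∈ L4 := by
    have h1 : nrm 4 a = 1 := by unfold nrm; omega
    have h2 : nrm 4 b = 1 := by unfold nrm; omega
    have h3 : nrm 4 c = 1 := by unfold nrm; omega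
    have h5 : nrm 4 e = 2 := by unfold nrm; omega
    rw [h1, h2, h3, h5]
    exact List.mem_singleton.2 rfl
  have h8 := step_sound (Q := 4) (by norm_num) step4 (h 3 (by norm_num)) h4
  have h16 := step_sound (Q := 8) (by norm_num) step8 (h 4 (by norm_num)) h8
  have h32 := step_sound (Q := 16) (by norm_num) step16 (h 5 (by norm_num)) h16
  have h64 := step_sound (Q := 32) (by norm_num) step32 (h 6 (by norm_num)) h32
  have h128 := step_sound (Q := 64) (by norm_num) step64 (h 7 (by norm_num)) h64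
  exact absurd h128 (by simp)

/-- The symmetric form of the hypotheses. -/
structure HypS (Q a b c e : ℕ) : Prop where
  sq : Q ∣ 1 + (a ^ 2 + (b ^ 2 + (c ^ 2 + e ^ 2)))
  ineq : ∀ m, Q * nrm Q m ≤
    nrm Q m ^ 2 + (nrm Q (m * a) ^ 2 + (nrm Q (m * b) ^ 2 + (nrm Q (m * c) ^ 2 + nrm Q (m * e) ^ 2)))

theorem HypS.hyp {Q a b c e : ℕ} (h : HypS Q a b c e) : Hyp Q a b c e where
  sq := by
    have := h.sq
    convert this using 1
    ring
  ineq m := by
    have := h.ineq m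
    unfold okm sumSq
    refine Nat.ble_eq_true_of_le (this.trans (le_of_eq ?_))
    ring

theorem HypS.of_perm {Q a b c e a' b' c' e' : ℕ} (h : HypS Q a b c e)
    (hp : ([a, b, c, e] : List ℕ).Perm [a', b', c', e']) : HypS Q a' b' c' e' where
  sq := by
    have h1 := (hp.map fun n => n ^ 2).sum_eq
    simp only [List.map_cons, List.map_nil, List.sum_cons, List.sum_nil, add_zero] at h1
    rw [← h1]
    exact h.sq
  ineq m := by
    have h1 := (hp.map fun n => nrm Q (m * n) ^ 2).sum_eq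
    simp only [List.map_cons, List.map_nil, List.sum_cons, List.sum_nil, add_zero] at h1
    rw [← h1]
    exact h.ineq m

theorem sq_mod8 (n : ℕ) : (n % 2 = 1 ∧ n ^ 2 % 8 = 1) ∨ (n % 4 = 2 ∧ n ^ 2 % 8 = 4) ∨ (n % 4 = 0 ∧ n ^ 2 % 8 = 0) := by
  have h : n % 8 < 8 := Nat.mod_lt _ (by norm_num)
  rw [Nat.pow_mod]
  generalize hr : n % 8 = r at h ⊢
  interval_cases r
  · exact Or.inr (Or.inr ⟨by omega, by norm_num⟩)
  · exact Or.inl ⟨by omega, by norm_num⟩
  · exact Or.inr (Or.inl ⟨by omega, by norm_num⟩)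
  · exact Or.inl ⟨by omega, by norm_num⟩
  · exact Or.inr (Or.inr ⟨by omega, by norm_num⟩)
  · exact Or.inl ⟨by omega, by norm_num⟩
  · exact Or.inr (Or.inl ⟨by omega, by norm_num⟩)
  · exact Or.inl ⟨by omega, by norm_num⟩

/-- The finite search, without assumption on the parities. -/
theorem searchS {a b c e : ℕ} (h : ∀ j, j ≤ 7 → HypS (2 ^ j) a b c e) : False := by
  have h8 := (h 3 (by norm_num)).sq
  norm_num at h8
  rcases sq_mod8 a with ⟨ha, ha'⟩ | ⟨ha, ha'⟩ | ⟨ha, ha'⟩ <;>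
  rcases sq_mod8 b with ⟨hb, hb'⟩ | ⟨hb, hb'⟩ | ⟨hb, hb'⟩ <;>
  rcases sq_mod8 c with ⟨hc, hc'⟩ | ⟨hc, hc'⟩ | ⟨hc, hc'⟩ <;>
  rcases sq_mod8 e with ⟨he, he'⟩ | ⟨he, he'⟩ | ⟨he, he'⟩ <;>
  first
  | (exfalso; omega)
  | exact search ha hb hc he fun j hj => (h j hj).hyp
  | exact search ha hb he hc fun j hj => ((h j hj).of_perm
      (((List.Perm.swap e c []).cons b).cons a)).hyp
  | exact search ha hc he hb fun j hj => ((h j hj).of_perm
      (show ([a, b, c, e] : List ℕ).Perm [a, c, e, b] from (List.perm_append_comm (l₁ := [b]) (l₂ := [c, e])).cons a)).hyp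
  | exact search hb hc he ha fun j hj => ((h j hj).of_perm
      (show ([a, b, c, e] : List ℕ).Perm [b, c, e, a] from List.perm_append_comm (l₁ := [a]) (l₂ := [b, c, e]))).hyp

section final

variable {G : Type u} [Group G] [Finite G] {M : Ideal AlgInt}

theorem card_B0 : (B0 M G).card = Nat.card (principalBlock M G) := by
  have := finite_irr (G := G)
  have h1 : ((B0 M G : Finset (IrrCharacter G)) : Set (IrrCharacter G)) = principalBlock M G := by
    ext χ
    exact mem_B0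
  rw [← h1, Nat.card_coe_set_eq, Set.ncard_coe_finset]

/-- The four nontrivial characters of a principal block with five characters. -/
theorem exists_four {p : ℕ} (hM : IsPModular p M) (h5 : Nat.card (principalBlock M G) = 5) :
    ∃ a b c e : ℕ, ∀ f : ℕ → ℕ, ∑ χ ∈ B0 M G, f (charDegree (χ : G → ℂ)) = f 1 + (f a + (f b + (f c + f e))) := by
  classical
  have hone := one_mem_B0 (G := G) hM
  have hc : ((B0 M G).erase ⟨fun _ => 1, isIrrCharacter_one⟩).card = 4 := by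
    rw [Finset.card_erase_of_mem hone, card_B0, h5]
  obtain ⟨l, hl⟩ : ∃ l : List (IrrCharacter G), (l : Multiset (IrrCharacter G)) =
      ((B0 M G).erase ⟨fun _ => 1, isIrrCharacter_one⟩).val :=
    ⟨_, Multiset.coe_toList _⟩
  have hlen : l.length = 4 := by
    have h1 := congrArg Multiset.card hl
    rw [Multiset.coe_card] at h1
    rw [h1]
    exact hc
  obtain ⟨x, y, z, w, rfl⟩ : ∃ x y z w, l = [x, y, z, w] := by
    match l, hlen with
    | [x, y, z, w], _ => exact ⟨x, y, z, w, rfl⟩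
  refine ⟨charDegree (x : G → ℂ), charDegree (y : G → ℂ), charDegree (z : G → ℂ), charDegree (w : G → ℂ), fun f => ?_⟩
  rw [← Finset.add_sum_erase _ _ hone, charDegree_triv, Finset.sum, ← hl]
  simp

/-- **`128` does not divide the order of a group whose principal `2`-block has five characters.** -/
theorem not_dvd_128 (hM : IsPModular 2 M) (h5 : Nat.card (principalBlock M G) = 5) : ¬ 128 ∣ Nat.card G := by
  intro hd
  obtain ⟨a, b, c, e, hs⟩ := exists_four hM h5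
  refine searchS (a := a) (b := b) (c := c) (e := e) fun j hj => ⟨?_, fun m => ?_⟩
  · have h1 := dvd_sum_sq (G := G) hM (good_principal hM) (a := j)
      ((pow_dvd_pow 2 hj).trans (by norm_num; exact hd))
    have h2 : ((∑ χ ∈ B0 M G, charDegree (χ : G → ℂ) ^ 2 : ℕ) : ℤ) = ∑ χ ∈ B0 M G, (charDegree (χ : G → ℂ) : ℤ) ^ 2 := by
      push_cast
      rfl
    rw [← h2] at h1
    have h3 : 2 ^ j ∣ ∑ χ ∈ B0 M G, charDegree (χ : G → ℂ) ^ 2 := by exact_mod_cast h1
    rwa [hs fun n => n ^ 2, one_pow] at h3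
  · have h1 := sum_nrm_ge (G := G) hM (good_principal hM) (one_mem_B0 hM) (a := j)
      ((pow_dvd_pow 2 hj).trans (by norm_num; exact hd)) m
    rwa [hs fun n => nrm (2 ^ j) (m * n) ^ 2, mul_one] at h1

end final

end Cfsg.Agent.H98.K5
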